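import Mathlib.CategoryTheory.Abelian.GrothendieckCategory.Subobject
import Mathlib.CategoryTheory.Abelian.GrothendieckCategory.EnoughInjectives
import Mathlib.CategoryTheory.Subobject.Lattice
import Mathlib.CategoryTheory.Abelian.Basic
import Mathlib.Algebra.Homology.ShortComplex.ShortExact
import Mathlib.Order.Zorn
import Mathlib.CategoryTheory.ObjectProperty.EpiMono

/-! Injective hulls in Grothendieck abelian categories. -/

set_option autoImplicit false
set_option linter.style.haveILetI false

universe w v u

open CategoryTheory Limits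

namespace InjHullCatLib

variable {C : Type u} [Category.{v} C] [Abelian C]

/-- A monomorphism is essential if a map out of the target is mono as soon as its restriction is. -/
def IsEssential {M E : C} (i : M ⟶ E) : Prop :=
  ∀ ⦃Z : C⦄ (g : E ⟶ Z), Mono (i ≫ g) → Mono g

theorem disjoint_of {X : C} {S Z : Subobject X}
    (h : ∀ (T : C) (a : T ⟶ (S : C)) (b : T ⟶ (Z : C)), a ≫ S.arrow = b ≫ Z.arrow → a = 0) :
    Disjoint S Z := by
  rw [disjoint_iff, ← Subobject.mk_arrow (S ⊓ Z), Subobject.mk_eq_bot_iff_zero]
  have h0 := h _ (Subobject.ofLE (S ⊓ Z) S inf_le_left) (Subobject.ofLE (S ⊓ Z) Z inf_le_right)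
    (by rw [Subobject.ofLE_arrow, Subobject.ofLE_arrow])
  rw [← Subobject.ofLE_arrow (inf_le_left : S ⊓ Z ≤ S), h0, zero_comp]

theorem disjoint_iff_mono {X : C} (S Z : Subobject X) :
    Disjoint S Z ↔ Mono (S.arrow ≫ cokernel.π Z.arrow) := by
  constructor
  · intro h
    refine Preadditive.mono_of_cancel_zero _ fun {T} g hg => ?_
    have hS : S.Factors (g ≫ S.arrow) := S.factors_comp_arrow g
    have hZ : Z.Factors (g ≫ S.arrow) := by
      have h1 : Abelian.monoLift Z.arrow (g ≫ S.arrow) (by rw [Category.assoc, hg]) ≫ Z.arrow =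
          g ≫ S.arrow := Abelian.monoLift_comp _ _ _
      rw [← h1]
      exact Z.factors_comp_arrow _
    have hb : (⊥ : Subobject X).Factors (g ≫ S.arrow) := by
      rw [← h.eq_bot, Subobject.inf_factors]
      exact ⟨hS, hZ⟩
    rw [Subobject.bot_factors_iff_zero] at hb
    rwa [← cancel_mono S.arrow, zero_comp]
  · intro h
    refine disjoint_of fun T a b hab => ?_
    rw [← cancel_mono (S.arrow ≫ cokernel.π Z.arrow), zero_comp, ← Category.assoc, hab,
      Category.assoc, cokernel.condition, comp_zero]

theorem disjoint_mk_iff_mono {X A : C} (f : A ⟶ X) [Mono f] (Z : Subobject X) :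
    Disjoint (Subobject.mk f) Z ↔ Mono (f ≫ cokernel.π Z.arrow) := by
  rw [disjoint_iff_mono]
  constructor
  · intro h
    rw [← Subobject.underlyingIso_arrow f, Category.assoc]
    infer_instance
  · intro h
    rw [← Subobject.underlyingIso_hom_comp_eq_mk f, Category.assoc]
    infer_instance

variable [IsGrothendieckAbelian.{w} C]

theorem mono_of_isColimit {J : Type w} [SmallCategory J] [IsFiltered J] {D : J ⥤ C} {c : Cocone D}
    (hc : IsColimit c) {Y : C} (f : c.pt ⟶ Y) (hf : ∀ j, Mono (c.ι.app j ≫ f)) : Mono f := by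
  haveI := IsFiltered.isConnected J
  let α : D ⟶ (Functor.const J).obj Y :=
    { app := fun j => c.ι.app j ≫ f
      naturality := fun i j g => by simp }
  haveI : ∀ j, Mono (α.app j) := hf
  haveI := NatTrans.mono_of_mono_app α
  exact colim.map_mono' α hc (isColimitConstCocone J Y) f (by intro j; simp [α]; erw [Category.comp_id])

set_option backward.isDefEq.respectTransparency false in
/-- A nonempty directed family of subobjects has an upper bound disjoint from everything the family
is disjoint from. -/
theorem exists_upperBound {X : C} (c : Set (Subobject X)) (hne : c.Nonempty)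
    (hdir : DirectedOn (· ≤ ·) c) :
    ∃ U : Subobject X, (∀ S ∈ c, S ≤ U) ∧
      ∀ Z : Subobject X, (∀ S ∈ c, Disjoint S Z) → Disjoint U Z := by
  let σ : Shrink.{w} c → Subobject X := fun j => ((equivShrink c).symm j).1
  letI : Preorder (Shrink.{w} c) := Preorder.lift σ
  haveI : Nonempty (Shrink.{w} c) := ⟨equivShrink c ⟨_, hne.some_mem⟩⟩
  haveI : IsDirectedOrder (Shrink.{w} c) := ⟨fun a b => by
    obtain ⟨S, hS, h1, h2⟩ := hdir _ ((equivShrink c).symm a).2 _ ((equivShrink c).symm b).2
    refine ⟨equivShrink c ⟨S, hS⟩, ?_, ?_⟩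
    · show σ a ≤ σ _
      simp only [σ, Equiv.symm_apply_apply]
      exact h1
    · show σ b ≤ σ _
      simp only [σ, Equiv.symm_apply_apply]
      exact h2⟩
  letI : SmallCategory (Shrink.{w} c) := Preorder.smallCategory _
  let D : Shrink.{w} c ⥤ C :=
    { obj := fun j => (σ j : C)
      map := fun {i j} h => Subobject.ofLE (σ i) (σ j) (show σ i ≤ σ j from leOfHom (X := Shrink.{w} c) h)
      map_id := fun i => by simp
      map_comp := fun f g => by simp [Subobject.ofLE_comp_ofLE] }
  let f : colimit D ⟶ X := colimit.desc D (Cocone.mk X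
    { app := fun j => (σ j).arrow
      naturality := fun i j h => by simp [D] })
  have hf : ∀ j, colimit.ι D j ≫ f = (σ j).arrow := fun j => colimit.ι_desc _ _
  haveI : Mono f := mono_of_isColimit (colimit.isColimit D) f fun j => by
    show Mono (colimit.ι D j ≫ f)
    rw [hf]; infer_instance
  refine ⟨Subobject.mk f, fun S hS => ?_, fun Z hZ => ?_⟩
  · have h1 := hf (equivShrink c ⟨S, hS⟩)
    have h2 : σ (equivShrink c ⟨S, hS⟩) = S := by simp [σ]
    rw [← h2]
    exact Subobject.le_mk_of_comm _ h1
  · rw [disjoint_mk_iff_mono]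
    refine mono_of_isColimit (colimit.isColimit D) _ fun j => ?_
    show Mono (colimit.ι D j ≫ f ≫ cokernel.π Z.arrow)
    rw [← Category.assoc, hf, ← disjoint_iff_mono]
    exact hZ _ ((equivShrink c).symm j).2

/-- Injective hulls exist. -/
theorem exists_injectiveHull (M : C) :
    ∃ (E : C) (i : M ⟶ E), Mono i ∧ Injective E ∧ IsEssential i := by
  let X := Injective.under M
  let M₀ := Subobject.mk (Injective.ι M)
  let s : Set (Subobject X) := {S | M₀ ≤ S ∧ ∀ W, W ≤ S → Disjoint W M₀ → W = ⊥}
  have hM₀ : M₀ ∈ s := ⟨le_rfl, fun W hW hd => hd.eq_bot_of_le hW⟩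
  obtain ⟨S, hS⟩ := zorn_le₀ s fun c hc hchain => by
    have hchain' : IsChain (· ≤ ·) (insert M₀ c) :=
      hchain.insert fun b hb _ => Or.inl (hc hb).1
    obtain ⟨U, hU, hUd⟩ := exists_upperBound (insert M₀ c) ⟨M₀, Set.mem_insert _ _⟩
      hchain'.directedOn
    refine ⟨U, ⟨hU _ (Set.mem_insert _ _), fun W hW hd => ?_⟩,
      fun z hz => hU _ (Set.mem_insert_of_mem _ hz)⟩
    refine (hUd W fun T hT => ?_).symm.eq_bot_of_le hW
    have hT' : T ∈ s := by
      rcases hT with rfl | hT
      · exact hM₀
      · exact hc hT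
    rw [disjoint_iff]
    exact hT'.2 _ inf_le_left (hd.mono_left inf_le_right)
  obtain ⟨⟨hMS, hSess⟩, hSmax⟩ := hS
  -- a maximal subobject disjoint from `S`
  obtain ⟨U, hU⟩ := zorn_le₀ {U : Subobject X | Disjoint S U} fun c hc hchain => by
    have hchain' : IsChain (· ≤ ·) (insert (⊥ : Subobject X) c) :=
      hchain.insert fun b hb _ => Or.inl bot_le
    obtain ⟨V, hV, hVd⟩ := exists_upperBound (insert (⊥ : Subobject X) c) ⟨⊥, Set.mem_insert _ _⟩
      hchain'.directedOn
    refine ⟨V, (hVd S fun T hT => ?_).symm, fun z hz => hV _ (Set.mem_insert_of_mem _ hz)⟩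
    rcases hT with rfl | hT
    · exact disjoint_bot_left
    · exact Disjoint.symm (hc hT)
  obtain ⟨hSU, hUmax⟩ := hU
  let π := cokernel.π U.arrow
  haveI hg₀ : Mono (S.arrow ≫ π) := (disjoint_iff_mono S U).1 hSU
  have hess : IsEssential (S.arrow ≫ π) := by
    intro Z h hh
    let U' := Subobject.mk (kernel.ι (π ≫ h))
    have hle : U ≤ U' := Subobject.le_mk_of_comm
      (kernel.lift (π ≫ h) U.arrow (by rw [← Category.assoc, cokernel.condition, zero_comp]))
      (kernel.lift_ι _ _ _)
    have hd : Disjoint S U' := by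
      refine disjoint_of fun T a b hab => ?_
      rw [← cancel_mono ((S.arrow ≫ π) ≫ h), zero_comp, Category.assoc, ← Category.assoc, hab,
        Category.assoc, ← Subobject.underlyingIso_hom_comp_eq_mk (kernel.ι (π ≫ h)),
        Category.assoc, kernel.condition, comp_zero, comp_zero]
    have hle' : U' ≤ U := hUmax hd hle
    refine Preadditive.mono_of_cancel_zero _ fun {T} k hk => ?_
    rw [← cancel_epi (pullback.snd π k), comp_zero, ← pullback.condition]
    have h1 : pullback.fst π k ≫ π ≫ h = 0 := by
      rw [← Category.assoc, pullback.condition, Category.assoc, hk, comp_zero]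
    rw [← kernel.lift_ι (π ≫ h) (pullback.fst π k) h1, ← Subobject.ofMkLE_arrow hle',
      Category.assoc, Category.assoc, cokernel.condition, comp_zero, comp_zero]
  let e : cokernel U.arrow ⟶ X := Injective.factorThru S.arrow (S.arrow ≫ π)
  have he : (S.arrow ≫ π) ≫ e = S.arrow := Injective.comp_factorThru _ _
  haveI : Mono e := hess e (by rw [he]; infer_instance)
  have hSV : S ≤ Subobject.mk e := Subobject.le_mk_of_comm _ he
  have hV : Subobject.mk e ∈ s := by
    refine ⟨hMS.trans hSV, fun W hW hd => ?_⟩
    have hSW : Disjoint S W := by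
      rw [disjoint_iff]
      exact hSess _ inf_le_left (hd.mono_left inf_le_right)
    refine ((disjoint_mk_iff_mono e W).2 (hess _ ?_)).symm.eq_bot_of_le hW
    rw [← Category.assoc, he]
    exact (disjoint_iff_mono S W).1 hSW
  have hVS : Subobject.mk e ≤ S := hSmax hV hSV
  let t := Subobject.ofMkLE e S hVS
  have ht : (S.arrow ≫ π) ≫ t = 𝟙 _ := by
    rw [← cancel_mono S.arrow, Category.assoc, Subobject.ofMkLE_arrow, Category.id_comp]
    exact he
  have hr : S.arrow ≫ π ≫ t = 𝟙 _ := by rw [← Category.assoc]; exact ht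
  haveI hinj : Injective (S : C) := ⟨fun {A B} f m _ =>
    ⟨Injective.factorThru (f ≫ S.arrow) m ≫ π ≫ t, by
      rw [← Category.assoc, Injective.comp_factorThru, Category.assoc, hr, Category.comp_id]⟩⟩
  refine ⟨(S : C), Subobject.ofMkLE (Injective.ι M) S hMS, inferInstance, hinj, ?_⟩
  intro Z g hg
  let K := Subobject.mk (kernel.ι g ≫ S.arrow)
  have hK : Disjoint M₀ K := by
    refine disjoint_of fun T a b hab => ?_
    rw [← cancel_mono (Subobject.underlyingIso (Injective.ι M)).hom, zero_comp,
      ← cancel_mono (Subobject.ofMkLE (Injective.ι M) S hMS ≫ g), zero_comp]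
    have h1 : a ≫ (Subobject.underlyingIso (Injective.ι M)).hom ≫
        Subobject.ofMkLE (Injective.ι M) S hMS =
        b ≫ (Subobject.underlyingIso (kernel.ι g ≫ S.arrow)).hom ≫ kernel.ι g := by
      rw [← cancel_mono S.arrow]
      simp only [Category.assoc, Subobject.ofMkLE_arrow, Subobject.underlyingIso_hom_comp_eq_mk]
      exact hab
    have h2 := congrArg (· ≫ g) h1
    simpa only [Category.assoc, kernel.condition, comp_zero] using h2
  have hK0 : K = ⊥ := hSess K (Subobject.mk_le_of_comm (kernel.ι g) rfl) hK.symm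
  rw [Subobject.mk_eq_bot_iff_zero] at hK0
  exact Preadditive.mono_of_kernel_zero (by rwa [← cancel_mono S.arrow, zero_comp])

/-- In an indecomposable injective object every nonzero subobject is essential. -/
theorem isEssential_of_indecomposable {E : C} [Injective E]
    (hind : ∀ (A B : C), Nonempty (E ≅ A ⊞ B) → IsZero A ∨ IsZero B) {A : C} (j : A ⟶ E) [Mono j]
    (hj : j ≠ 0) : IsEssential j := by
  obtain ⟨H, i, hi, hH, hess⟩ := exists_injectiveHull.{w} A
  let g : H ⟶ E := Injective.factorThru j i
  have hg : i ≫ g = j := Injective.comp_factorThru _ _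
  haveI : Mono g := hess g (by rw [hg]; infer_instance)
  let r : E ⟶ H := Injective.factorThru (𝟙 H) g
  have hr : g ≫ r = 𝟙 H := Injective.comp_factorThru _ _
  let sc := ShortComplex.mk g (cokernel.π g) (cokernel.condition g)
  have hse : sc.ShortExact :=
    { exact := ShortComplex.exact_of_g_is_cokernel _ (cokernelIsCokernel g)
      mono_f := inferInstanceAs (Mono g)
      epi_g := inferInstanceAs (Epi (cokernel.π g)) }
  haveI : Epi sc.g := hse.epi_g
  let spl := ShortComplex.Splitting.ofExactOfRetraction sc hse.exact r hr inferInstance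
  haveI : IsIso g := by
    rcases hind H (cokernel g) ⟨spl.isoBinaryBiproduct⟩ with h | h
    · exact absurd (by rw [← hg, h.eq_of_tgt i 0, zero_comp]) hj
    · haveI : Epi g := Preadditive.epi_of_isZero_cokernel g h
      exact isIso_of_mono_of_epi g
  intro Z k hk
  have : Mono (g ≫ k) := hess _ (by rw [← Category.assoc, hg]; exact hk)
  exact (mono_comp_iff_of_isIso g k).1 this

omit [IsGrothendieckAbelian.{w} C] in
/-- A map into an essential extension vanishing on the base object part is zero: if `Y ⟶ E` is
nonzero, its image meets `M`. -/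
theorem eq_zero_of_isEssential {M E : C} {i : M ⟶ E} [Mono i] (hi : IsEssential i)
    (P : ObjectProperty C) [ObjectProperty.IsClosedUnderSubobjects P]
    [ObjectProperty.IsClosedUnderQuotients P]
    (hP : ∀ ⦃Y : C⦄, P Y → ∀ f : Y ⟶ M, f = 0) {Y : C} (hY : P Y) (f : Y ⟶ E) : f = 0 := by
  have hI : P (image f) := P.prop_of_epi (factorThruImage f) hY
  have hm : Mono (i ≫ cokernel.π (image.ι f)) := by
    refine Preadditive.mono_of_cancel_zero _ fun {T} a ha => ?_
    have h1 : Abelian.monoLift (image.ι f) (a ≫ i) (by rw [Category.assoc, ha]) ≫ image.ι f = a ≫ i :=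
      Abelian.monoLift_comp _ _ _
    -- the pullback of the image to `M` lies in `P`
    have h2 : P (pullback i (image.ι f)) := P.prop_of_mono (pullback.snd i (image.ι f)) hI
    rw [← pullback.lift_fst a _ h1.symm, hP h2 (pullback.fst i (image.ι f)), comp_zero]
  haveI := hi _ hm
  have : image.ι f = 0 := by
    rw [← cancel_mono (cokernel.π (image.ι f)), cokernel.condition, zero_comp]
  rw [← image.fac f, this, comp_zero]

end InjHullCatLib
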